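import Groth.Agent.PLieLib.Hom
import Mathlib.Algebra.DualNumber
import Mathlib.LinearAlgebra.Matrix.Notation
import Mathlib.Tactic.Ring
import Mathlib.Tactic.Module

/-! Coordinates for three-dimensional Lie algebras over dual numbers. -/

universe u v

namespace Groth.Agent.PLieLib

variable {K : Type u} [CommRing K] {L : Type v} [LieRing L] [LieAlgebra (DualNumber K) L]
  (bs : Module.Basis (Fin 3) (DualNumber K) L)

open DualNumber

/-- reduced coordinates -/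
noncomputable def fc (u : L) (j : Fin 3) : K := (bs.repr u j).fst

/-- infinitesimal coordinates -/
noncomputable def sc (u : L) (j : Fin 3) : K := (bs.repr u j).snd

theorem ext6 {u w : L} (h : ∀ j, fc bs u j = fc bs w j ∧ sc bs u j = sc bs w j) : u = w :=
  bs.ext_elem fun j => TrivSqZeroExt.ext (h j).1 (h j).2

@[simp] theorem fc_add (u w : L) (j) : fc bs (u + w) j = fc bs u j + fc bs w j := by simp [fc]
@[simp] theorem sc_add (u w : L) (j) : sc bs (u + w) j = sc bs u j + sc bs w j := by simp [sc]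
@[simp] theorem fc_neg (u : L) (j) : fc bs (-u) j = -fc bs u j := by simp [fc]
@[simp] theorem sc_neg (u : L) (j) : sc bs (-u) j = -sc bs u j := by simp [sc]
@[simp] theorem fc_sub (u w : L) (j) : fc bs (u - w) j = fc bs u j - fc bs w j := by simp [fc]
@[simp] theorem sc_sub (u w : L) (j) : sc bs (u - w) j = sc bs u j - sc bs w j := by simp [sc]
@[simp] theorem fc_zero (j) : fc bs 0 j = 0 := by simp [fc]
@[simp] theorem sc_zero (j) : sc bs 0 j = 0 := by simp [sc]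
@[simp] theorem fc_smul (c : DualNumber K) (u : L) (j) : fc bs (c • u) j = c.fst * fc bs u j := by simp [fc]
@[simp] theorem sc_smul (c : DualNumber K) (u : L) (j) :
    sc bs (c • u) j = c.fst * sc bs u j + c.snd * fc bs u j := by
  simp [sc, fc]
@[simp] theorem fc_basis (i j : Fin 3) : fc bs (bs i) j = if i = j then 1 else 0 := by
  rcases eq_or_ne i j with rfl | h <;> simp [fc, *]
@[simp] theorem sc_basis (i j : Fin 3) : sc bs (bs i) j = 0 := by
  rcases eq_or_ne i j with rfl | h <;> simp [sc, *]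

/-- the reduced and infinitesimal structure constants -/
structure Table (C C' : Fin 3 → Fin 3 → K) : Prop where
  h01 : ∀ j, fc bs ⁅bs 0, bs 1⁆ j = C 0 j ∧ sc bs ⁅bs 0, bs 1⁆ j = C' 0 j
  h02 : ∀ j, fc bs ⁅bs 0, bs 2⁆ j = C 1 j ∧ sc bs ⁅bs 0, bs 2⁆ j = C' 1 j
  h12 : ∀ j, fc bs ⁅bs 1, bs 2⁆ j = C 2 j ∧ sc bs ⁅bs 1, bs 2⁆ j = C' 2 j

theorem lie_expand (u w : L) :
    ⁅u, w⁆ = (bs.repr u 0 * bs.repr w 1 - bs.repr u 1 * bs.repr w 0) • ⁅bs 0, bs 1⁆ +
      (bs.repr u 0 * bs.repr w 2 - bs.repr u 2 * bs.repr w 0) • ⁅bs 0, bs 2⁆ +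
      (bs.repr u 1 * bs.repr w 2 - bs.repr u 2 * bs.repr w 1) • ⁅bs 1, bs 2⁆ := by
  conv_lhs => rw [← bs.sum_repr u, ← bs.sum_repr w, Fin.sum_univ_three, Fin.sum_univ_three]
  simp only [lie_add, add_lie, smul_lie, lie_smul, lie_self, smul_zero, ← lie_skew (bs 0) (bs 1),
    ← lie_skew (bs 0) (bs 2), ← lie_skew (bs 1) (bs 2)]
  module

variable {bs} {C C' : Fin 3 → Fin 3 → K}

theorem Table.fc_lie (h : Table bs C C') (u w : L) (j : Fin 3) : fc bs ⁅u, w⁆ j =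
    (fc bs u 0 * fc bs w 1 - fc bs u 1 * fc bs w 0) * C 0 j +
      (fc bs u 0 * fc bs w 2 - fc bs u 2 * fc bs w 0) * C 1 j +
      (fc bs u 1 * fc bs w 2 - fc bs u 2 * fc bs w 1) * C 2 j := by
  rw [lie_expand bs u w, fc_add, fc_add, fc_smul, fc_smul, fc_smul, (h.h01 j).1, (h.h02 j).1, (h.h12 j).1]
  simp [fc]

theorem Table.sc_lie (h : Table bs C C') (u w : L) (j : Fin 3) : sc bs ⁅u, w⁆ j =
    (fc bs u 0 * fc bs w 1 - fc bs u 1 * fc bs w 0) * C' 0 j +
      (fc bs u 0 * fc bs w 2 - fc bs u 2 * fc bs w 0) * C' 1 j +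
      (fc bs u 1 * fc bs w 2 - fc bs u 2 * fc bs w 1) * C' 2 j +
      ((sc bs u 0 * fc bs w 1 + fc bs u 0 * sc bs w 1) - (sc bs u 1 * fc bs w 0 + fc bs u 1 * sc bs w 0)) * C 0 j +
      ((sc bs u 0 * fc bs w 2 + fc bs u 0 * sc bs w 2) - (sc bs u 2 * fc bs w 0 + fc bs u 2 * sc bs w 0)) * C 1 j +
      ((sc bs u 1 * fc bs w 2 + fc bs u 1 * sc bs w 2) - (sc bs u 2 * fc bs w 1 + fc bs u 2 * sc bs w 1)) * C 2 j := by
  rw [lie_expand bs u w, sc_add, sc_add, sc_smul, sc_smul, sc_smul, (h.h01 j).1, (h.h01 j).2, (h.h02 j).1,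
    (h.h02 j).2, (h.h12 j).1, (h.h12 j).2]
  simp [fc, sc]
  ring

end Groth.Agent.PLieLib
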