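import Groth.Agent.PLieLib.Jacobson
import Mathlib.Algebra.Lie.Submodule
import Mathlib.Algebra.Lie.Engel

/-! Elementary facts about `p`-maps, Lie homomorphisms and ideals. -/

universe u v w

namespace Groth.Agent.PLieLib

variable {R : Type u} [CommRing R] {L : Type v} [LieRing L] [LieAlgebra R L]
  {L' : Type w} [LieRing L'] [LieAlgebra R L']

theorem hom_bracketWord (f : L →ₗ⁅R⁆ L') (x₀ x₁ z : L) : ∀ l : List Bool,
    f (PLie.bracketWord (PLie.pair x₀ x₁) z l) = PLie.bracketWord (PLie.pair (f x₀) (f x₁)) (f z) l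
  | [] => rfl
  | i :: l => by
    rw [PLie.bracketWord_cons, PLie.bracketWord_cons, LieHom.map_lie, hom_bracketWord f x₀ x₁ z l]
    cases i <;> rfl

theorem hom_jacobson (p : ℕ) [CharP R p] (f : L →ₗ⁅R⁆ L') (x₀ x₁ : L) :
    f (PLie.jacobson R p x₀ x₁) = PLie.jacobson R p (f x₀) (f x₁) := by
  simp only [PLie.jacobson]
  rw [← LieHom.coe_toLinearMap, map_sum]
  refine Finset.sum_congr rfl fun t _ => ?_
  rw [map_smul, LieHom.coe_toLinearMap, hom_bracketWord]

theorem bracketWord_zero {ι : Type*} (x : ι → L) : ∀ l : List ι, PLie.bracketWord x 0 l = 0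
  | [] => rfl
  | i :: l => by rw [PLie.bracketWord_cons, bracketWord_zero x l, lie_zero]

theorem jacobson_zero_right (p : ℕ) [CharP R p] (x : L) : PLie.jacobson R p x 0 = 0 :=
  Finset.sum_eq_zero fun t _ => by rw [bracketWord_zero, smul_zero]

theorem hom_ad_pow (f : L →ₗ⁅R⁆ L') (x : L) : ∀ (n : ℕ) (w : L),
    f ((LieAlgebra.ad R L x ^ n) w) = (LieAlgebra.ad R L' (f x) ^ n) (f w)
  | 0, _ => rfl
  | n + 1, w => by
    rw [pow_succ', pow_succ', Module.End.mul_apply, Module.End.mul_apply, LieAlgebra.ad_apply, LieHom.map_lie,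
      hom_ad_pow f x n w, LieAlgebra.ad_apply]

theorem ad_pow_apply_zero (n : ℕ) (hn : n ≠ 0) (w : L) : (LieAlgebra.ad R L 0 ^ n) w = 0 := by
  rw [map_zero, zero_pow hn, LinearMap.zero_apply]

/-- `ad x` acts on `w` by a scalar. -/
theorem ad_pow_eigen {x w : L} {c : R} (h : ⁅x, w⁆ = c • w) : ∀ n : ℕ,
    (LieAlgebra.ad R L x ^ n) w = c ^ n • w
  | 0 => by simp
  | n + 1 => by
    rw [pow_succ', Module.End.mul_apply, ad_pow_eigen h n, map_smul, LieAlgebra.ad_apply, h, smul_smul, pow_succ]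

theorem ad_pow_two_zero {x w : L} (h : ⁅x, ⁅x, w⁆⁆ = 0) {n : ℕ} (hn : 2 ≤ n) :
    (LieAlgebra.ad R L x ^ n) w = 0 := by
  obtain ⟨m, rfl⟩ := Nat.exists_eq_add_of_le hn
  rw [add_comm, pow_add, Module.End.mul_apply, pow_two, Module.End.mul_apply, LieAlgebra.ad_apply, LieAlgebra.ad_apply,
    h, map_zero]

theorem ad_pow_mem (I : LieIdeal R L) {x : L} (hx : x ∈ I) {n : ℕ} (hn : n ≠ 0) (w : L) :
    (LieAlgebra.ad R L x ^ n) w ∈ I := by
  obtain ⟨m, rfl⟩ := Nat.exists_eq_succ_of_ne_zero hn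
  rw [pow_succ', Module.End.mul_apply, LieAlgebra.ad_apply]
  exact lie_mem_left R L I x _ hx

variable (p : ℕ) [hp : Fact p.Prime] [CharP R p]

omit hp in
theorem lie_pmap (φ : PLie.PMap R p L) (x w : L) : ⁅φ x, w⁆ = (LieAlgebra.ad R L x ^ p) w := by
  rw [← φ.ad_map, LieAlgebra.ad_apply]

theorem pmap_iterate_zero (φ : PLie.PMap R p L) : ∀ n : ℕ, φ.toFun^[n] 0 = 0
  | 0 => rfl
  | n + 1 => by rw [Function.iterate_succ_apply, pmap_zero]; exact pmap_iterate_zero φ n

omit hp in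
theorem ad_pmap_iterate (φ : PLie.PMap R p L) (x : L) : ∀ n : ℕ,
    LieAlgebra.ad R L (φ.toFun^[n] x) = LieAlgebra.ad R L x ^ p ^ n
  | 0 => by simp
  | n + 1 => by
    rw [Function.iterate_succ_apply', φ.ad_map, ad_pmap_iterate φ x n, ← pow_mul, pow_succ]

omit hp in
theorem existsUnique_pmap_of_surjective (φ : PLie.PMap R p L) (g : L →ₗ⁅R⁆ L') (hg : Function.Surjective g)
    (hker : ∀ x, g x = 0 → g (φ x) = 0) : ∃! ψ : PLie.PMap R p L', PLie.IsPHom φ ψ g := by
  obtain ⟨s, hs⟩ := hg.hasRightInverse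
  have hwell : ∀ x x', g x = g x' → g (φ x) = g (φ x') := fun x x' h => by
    have hk : g (x' - x) = 0 := by rw [map_sub, h, sub_self]
    have := congrArg g (φ.map_add x (x' - x))
    rw [add_sub_cancel, map_sub, map_add, hker _ hk, add_zero, hom_jacobson, hk,
      jacobson_zero_right, sub_zero] at this
    exact this.symm
  let ψf : L' → L' := fun y => g (φ (s y))
  have hψ : ∀ x, ψf (g x) = g (φ x) := fun x => hwell _ _ (hs (g x))
  refine ⟨⟨ψf, fun c y => ?_, fun y => LinearMap.ext fun z => ?_, fun y z => ?_⟩, fun x => (hψ x).symm,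
    fun χ hχ => ?_⟩
  · obtain ⟨x, rfl⟩ := hg y
    rw [← map_smul, hψ, hψ, φ.map_smul, map_smul]
  · obtain ⟨x, rfl⟩ := hg y
    obtain ⟨w, rfl⟩ := hg z
    rw [LieAlgebra.ad_apply, hψ, ← LieHom.map_lie, lie_pmap, hom_ad_pow]
  · obtain ⟨x, rfl⟩ := hg y
    obtain ⟨w, rfl⟩ := hg z
    rw [← map_add, hψ, hψ, hψ, φ.map_add, map_sub, map_add, hom_jacobson]
  · have hfun : χ.toFun = ψf := funext fun y => by
      obtain ⟨x, rfl⟩ := hg y
      rw [hψ]; exact (hχ x).symm
    cases χ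
    simpa using hfun

/-- The span of `I` and `φ x`, `x ∈ I`, is an ideal. -/
def adjoinPow (φ : PLie.PMap R p L) (I : LieIdeal R L) {x : L} (hx : x ∈ I) : LieIdeal R L where
  toSubmodule := I.toSubmodule ⊔ Submodule.span R {φ x}
  lie_mem {y m} hm := by
    have hm' : m ∈ I.toSubmodule ⊔ Submodule.span R {φ x} := hm
    change ⁅y, m⁆ ∈ I.toSubmodule ⊔ Submodule.span R {φ x}
    rw [Submodule.mem_sup] at hm'
    obtain ⟨a, ha, b, hb, rfl⟩ := hm'
    obtain ⟨c, rfl⟩ := Submodule.mem_span_singleton.mp hb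
    refine Submodule.mem_sup_left ?_
    rw [lie_add, lie_smul, ← lie_skew y (φ x), lie_pmap]
    exact add_mem (lie_mem_right R L I y a ha)
      (I.toSubmodule.smul_mem c (I.toSubmodule.neg_mem (ad_pow_mem I hx hp.out.ne_zero y)))

theorem mem_adjoinPow (φ : PLie.PMap R p L) (I : LieIdeal R L) {x : L} (hx : x ∈ I) :
    φ x ∈ adjoinPow p φ I hx :=
  Submodule.mem_sup_right (Submodule.mem_span_singleton_self _)

theorem le_adjoinPow (φ : PLie.PMap R p L) (I : LieIdeal R L) {x : L} (hx : x ∈ I) :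
    I ≤ adjoinPow p φ I hx :=
  fun _ h => Submodule.mem_sup_left h

/-- Stability of the radical. -/
theorem radical_stable [IsNoetherian R L] (φ : PLie.PMap R p L) {x : L} (hx : x ∈ LieAlgebra.radical R L) :
    φ x ∈ LieAlgebra.radical R L := by
  set I := LieAlgebra.radical R L
  let J := adjoinPow p φ I hx
  have h1 : ⁅J, J⁆ ≤ I := (LieSubmodule.lie_le_iff _ _ _).mpr fun a ha b _ => by
    obtain ⟨a', ha', c', hc', rfl⟩ := Submodule.mem_sup.mp ha
    obtain ⟨c, rfl⟩ := Submodule.mem_span_singleton.mp hc'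
    rw [add_lie, smul_lie, lie_pmap]
    exact add_mem (lie_mem_left R L I a' b ha') (I.toSubmodule.smul_mem c (ad_pow_mem I hx hp.out.ne_zero b))
  obtain ⟨k, hk⟩ := (LieAlgebra.isSolvable_iff R I).mp inferInstance
  rw [LieIdeal.derivedSeries_eq_bot_iff] at hk
  have hJ : LieAlgebra.IsSolvable J := by
    refine (LieAlgebra.isSolvable_iff R J).mpr ⟨k + 1, ?_⟩
    rw [LieIdeal.derivedSeries_eq_bot_iff, LieAlgebra.derivedSeriesOfIdeal_add, eq_bot_iff, ← hk]
    refine LieAlgebra.derivedSeriesOfIdeal_le ?_ le_rfl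
    rw [show LieAlgebra.derivedSeriesOfIdeal R L 1 J = ⁅J, J⁆ from rfl]
    exact h1
  exact (LieAlgebra.LieIdeal.solvable_iff_le_radical R L J).mp hJ (mem_adjoinPow p φ I hx)

omit hp [CharP R p] in
theorem ad_isNilpotent_of_mem (I : LieIdeal R L) (hI : LieRing.IsNilpotent I) {x : L} (hx : x ∈ I) :
    IsNilpotent (LieAlgebra.ad R L x) := by
  obtain ⟨k, hk⟩ := LieAlgebra.nilpotent_ad_of_nilpotent_algebra R I
  refine ⟨k + 1, LinearMap.ext fun w => ?_⟩
  have := hom_ad_pow I.incl (⟨x, hx⟩ : I) k ⟨⁅x, w⁆, lie_mem_left R L I x w hx⟩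
  rw [hk, LinearMap.zero_apply, map_zero] at this
  rw [pow_succ, Module.End.mul_apply, LinearMap.zero_apply]
  exact this.symm

omit hp [CharP R p] in
theorem isNilpotent_module_of_ideal [IsNoetherian R L] (I : LieIdeal R L) (hI : LieRing.IsNilpotent I) :
    LieModule.IsNilpotent I L :=
  (LieModule.isNilpotent_iff_forall (R := R)).mpr fun x => ad_isNilpotent_of_mem I hI x.2

/-- Stability of the largest nilpotent ideal. -/
theorem nilradical_stable [IsNoetherian R L] (φ : PLie.PMap R p L) (N : LieIdeal R L) (hN : LieRing.IsNilpotent N)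
    (hmax : ∀ I : LieIdeal R L, LieRing.IsNilpotent I → I ≤ N) {x : L} (hx : x ∈ N) : φ x ∈ N := by
  have := isNilpotent_module_of_ideal N hN
  obtain ⟨m, hm⟩ := LieModule.IsNilpotent.nilpotent R N L
  let J := adjoinPow p φ N hx
  have hstep : ∀ k, ⁅J, N.lcs L k⁆ ≤ N.lcs L (k + 1) := fun k => (LieSubmodule.lie_le_iff _ _ _).mpr fun a ha b hb => by
    obtain ⟨a', ha', c', hc', rfl⟩ := Submodule.mem_sup.mp ha
    obtain ⟨c, rfl⟩ := Submodule.mem_span_singleton.mp hc'
    rw [add_lie, smul_lie, lie_pmap, LieIdeal.lcs_succ]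
    have hn : ∀ (n : ℕ) (z : L), z ∈ N.lcs L k → (LieAlgebra.ad R L x ^ (n + 1)) z ∈ ⁅N, N.lcs L k⁆ := by
      intro n
      induction n with
      | zero => intro z hz; rw [pow_one, LieAlgebra.ad_apply]; exact LieSubmodule.lie_mem_lie hx hz
      | succ n ih =>
        intro z hz
        rw [pow_succ', Module.End.mul_apply, LieAlgebra.ad_apply]
        exact LieSubmodule.lie_mem ⁅N, N.lcs L k⁆ (ih z hz)
    refine add_mem (LieSubmodule.lie_mem_lie ha' hb) ?_
    have := hn (p - 1) b hb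
    rw [Nat.sub_add_cancel hp.out.one_le] at this
    exact (⁅N, N.lcs L k⁆).toSubmodule.smul_mem c this
  have hle : ∀ k, J.lcs L k ≤ N.lcs L k := fun k => by
    induction k with
    | zero => exact le_rfl
    | succ k ih => rw [LieIdeal.lcs_succ]; exact (LieSubmodule.mono_lie_right _ ih).trans (hstep k)
  have hJm : LieModule.IsNilpotent J L := by
    refine (LieModule.isNilpotent_iff R J L).mpr ⟨m, ?_⟩
    have h2 : (N.lcs L m).toSubmodule = ⊥ := by
      rw [LieIdeal.coe_lcs_eq, hm, LieSubmodule.bot_toSubmodule]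
    rw [← LieSubmodule.toSubmodule_inj, ← LieIdeal.coe_lcs_eq, LieSubmodule.bot_toSubmodule, eq_bot_iff, ← h2]
    exact hle m
  have hJ : LieRing.IsNilpotent J := by
    let f : J →ₗ⁅R⁆ J := LieHom.id
    let g : J →ₗ[R] L := J.toSubmodule.subtype
    have hfg : ∀ (a : J) (b : J), ⁅f a, g b⁆ = g ⁅a, b⁆ := fun _ _ => rfl
    have hg : Function.Injective g := Subtype.val_injective
    exact hg.lieModuleIsNilpotent hfg
  exact hmax J hJ (mem_adjoinPow p φ N hx)

end Groth.Agent.PLieLib
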