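import Groth.Prelude.Def_PLie
import Groth.Agent.PBWLib.Basic
import Mathlib.Algebra.Polynomial.Derivative
import Mathlib.Algebra.Polynomial.Eval.Degree
import Mathlib.Algebra.CharP.Lemmas
import Mathlib.Algebra.Lie.OfAssociative
import Mathlib.Data.Nat.Choose.Sum
import Mathlib.Data.Nat.Choose.Dvd
import Mathlib.LinearAlgebra.Basis.Defs

/-! Jacobson's formula and the existence of `p`-maps with prescribed values on a basis. -/

universe u v w

open Polynomial
open scoped BigOperators

namespace Groth.Agent.PLieLib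

attribute [local instance] LieRing.ofAssociativeRing

section Assoc

variable {R : Type u} [CommRing R] (p : ℕ) [hp : Fact p.Prime] [CharP R p]
  {A : Type v} [Ring A] [Algebra R A]

omit [CharP R p] in
theorem choose_pred_prime : ∀ j, j < p → ((p - 1).choose j : ZMod p) = (-1) ^ j
  | 0, _ => by simp
  | j + 1, h => by
    have h2 := choose_pred_prime j (Nat.lt_of_succ_lt h)
    have h3 : ((p - 1).choose j : ZMod p) + ((p - 1).choose (j + 1) : ZMod p) = 0 := by
      rw [← Nat.cast_add, ← Nat.choose_succ_succ', Nat.sub_add_cancel hp.out.one_le,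
        (ZMod.natCast_eq_zero_iff (p.choose (j+1)) p).mpr (Nat.Prime.dvd_choose_self hp.out (Nat.succ_ne_zero j) h)]
    rw [eq_neg_of_add_eq_zero_right h3, h2, pow_succ, mul_neg_one]

include R in
theorem natCast_choose_pred (j : ℕ) (h : j < p) : (((p - 1).choose j : ℕ) : A) = (-1) ^ j := by
  have := congrArg (algebraMap R A) (congrArg (ZMod.castHom (dvd_refl p) R) (choose_pred_prime p j h))
  simpa using this

include R in
theorem sub_pow_pred {x y : A} (h : Commute x y) :
    (x - y) ^ (p - 1) = ∑ j ∈ Finset.range p, x ^ j * y ^ (p - 1 - j) := by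
  rw [sub_eq_add_neg, h.neg_right.add_pow, Nat.sub_add_cancel hp.out.one_le]
  refine Finset.sum_congr rfl fun j hj => ?_
  have hj' := Finset.mem_range.mp hj
  rw [natCast_choose_pred (R := R) p j hj', neg_pow]
  rcases hp.out.eq_two_or_odd' with h2 | ⟨q, hq⟩
  · have : (-1 : A) = 1 := by
      have h0 : ((2 : ℕ) : A) = 0 := by
        rw [← map_natCast (algebraMap R A), ← h2, CharP.cast_eq_zero, map_zero]
      rw [neg_eq_iff_add_eq_zero, one_add_one_eq_two]
      exact_mod_cast h0
    simp [this]
  · have e : ((-1 : A) ^ (p - 1 - j)) * (-1) ^ j = 1 := by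
      rw [← pow_add, Nat.sub_add_cancel (by omega), show p - 1 = 2 * q by omega, pow_mul]; simp
    have hc : Commute ((-1 : A) ^ j) (y ^ (p - 1 - j)) := ((Commute.one_left _).neg_left).pow_left j
    rw [mul_assoc, mul_assoc, ← hc.eq, ← mul_assoc ((-1 : A) ^ (p - 1 - j)), e, one_mul]

include R in
theorem iterate_bracket_pred (P Q : A) :
    (fun z => ⁅P, z⁆)^[p - 1] Q = ∑ j ∈ Finset.range p, P ^ j * Q * P ^ (p - 1 - j) := by
  let L := LinearMap.mulLeft R P
  let K := LinearMap.mulRight R P
  have hcomm : Commute L K := LinearMap.ext fun z => (mul_assoc P z P).symm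
  have hL : (L - K : Module.End R A) ^ (p - 1) = ∑ j ∈ Finset.range p, L ^ j * K ^ (p - 1 - j) :=
    sub_pow_pred (R := R) p hcomm
  have hfun : (fun z => ⁅P, z⁆) = ⇑(L - K : Module.End R A) := rfl
  rw [hfun, ← Module.End.coe_pow, hL, LinearMap.sum_apply]
  refine Finset.sum_congr rfl fun j _ => ?_
  rw [Module.End.mul_apply, LinearMap.pow_mulLeft, LinearMap.pow_mulRight]
  simp [mul_assoc]

include R in
theorem iterate_bracket_prime (P Q : A) : (fun z => ⁅P, z⁆)^[p] Q = P ^ p * Q - Q * P ^ p := by
  have := iterate_bracket_pred (R := R) p P Q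
  have e : p = (p - 1) + 1 := (Nat.sub_add_cancel hp.out.one_le).symm
  conv_lhs => rw [e, Function.iterate_succ_apply', this]
  rw [LieRing.of_associative_ring_bracket, Finset.mul_sum, Finset.sum_mul, ← Finset.sum_sub_distrib]
  rw [Finset.sum_congr rfl fun j hj => show P * (P ^ j * Q * P ^ (p - 1 - j)) - P ^ j * Q * P ^ (p - 1 - j) * P =
      P ^ (j + 1) * Q * P ^ (p - (j + 1)) - P ^ j * Q * P ^ (p - j) by
    have hj' := Finset.mem_range.mp hj
    rw [pow_succ' P j, show p - j = (p - 1 - j) + 1 by omega, pow_succ, show p - (j + 1) = p - 1 - j by omega]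
    simp only [mul_assoc]]
  rw [Finset.sum_range_sub (fun j => P ^ j * Q * P ^ (p - j))]
  simp

omit [Algebra R A] in
theorem derivative_pow' (P : A[X]) : ∀ n : ℕ,
    derivative (P ^ n) = ∑ j ∈ Finset.range n, P ^ j * derivative P * P ^ (n - 1 - j)
  | 0 => by simp
  | n + 1 => by
    rw [pow_succ, derivative_mul, derivative_pow' P n, Finset.sum_range_succ, Finset.sum_mul]
    simp only [Nat.add_sub_cancel, Nat.sub_self, pow_zero, mul_one]
    congr 1
    refine Finset.sum_congr rfl fun j hj => ?_
    rw [mul_assoc, ← pow_succ, show n - 1 - j + 1 = n - j by have := Finset.mem_range.mp hj; omega]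

omit [Algebra R A] in
theorem iterate_bracket_poly (a b : A) : ∀ n : ℕ,
    (fun z => ⁅(C a + X * C b : A[X]), z⁆)^[n] (C b) =
      ∑ t : Fin n → Bool, monomial (Fintype.card {i // t i = true}) (PLie.bracketWord (PLie.pair a b) b (List.ofFn t))
  | 0 => by simp
  | n + 1 => by
    rw [Function.iterate_succ_apply', iterate_bracket_poly a b n, LieRing.of_associative_ring_bracket,
      Finset.mul_sum, Finset.sum_mul, ← Finset.sum_sub_distrib,
      ← (Fin.consEquiv fun _ => Bool).sum_comp, Fintype.sum_prod_type, Fintype.sum_bool]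
    rw [← Finset.sum_add_distrib]
    refine Finset.sum_congr rfl fun t _ => ?_
    have hcard : ∀ c : Bool, Fintype.card {i // (Fin.cons c t : Fin (n + 1) → Bool) i = true} =
        (if c = true then 1 else 0) + Fintype.card {i // t i = true} := by
      intro c
      simp only [Fintype.card_subtype, Finset.card_filter, Fin.sum_univ_succ, Fin.cons_zero, Fin.cons_succ]
    simp only [Fin.consEquiv, Equiv.coe_fn_mk, List.ofFn_cons, PLie.bracketWord_cons]
    erw [hcard, hcard]
    set m := Fintype.card {i // t i = true}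
    set W := PLie.bracketWord (PLie.pair a b) b (List.ofFn t)
    simp only [Bool.false_eq_true, if_false, if_true, zero_add]
    rw [X_mul_C, ← monomial_one_one_eq_X]
    simp only [add_mul, mul_add, C_mul_monomial, monomial_mul_C, monomial_mul_monomial, mul_one]
    simp only [PLie.pair, LieRing.of_associative_ring_bracket, if_true,
      Bool.false_eq_true, if_false, map_sub]
    rw [add_comm m 1]
    abel

variable (R)

/-- Jacobson's formula. -/
theorem add_pow_eq (a b : A) : (a + b) ^ p = a ^ p + b ^ p - PLie.jacobson R p a b := by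
  have hA : ((p : ℕ) : A) = 0 := by
    rw [← map_natCast (algebraMap R A), CharP.cast_eq_zero, map_zero]
  set P : A[X] := C a + X * C b
  have hD : derivative (P ^ p) = ∑ t : Fin (p - 1) → Bool,
      monomial (Fintype.card {i // t i = true}) (PLie.bracketWord (PLie.pair a b) b (List.ofFn t)) := by
    rw [derivative_pow', ← iterate_bracket_poly a b (p - 1), iterate_bracket_pred (R := R) p]
    simp [P]
  have hdeg : P.natDegree ≤ 1 := by
    refine (natDegree_add_le _ _).trans (max_le (by simp) (natDegree_mul_le.trans ?_))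
    have := natDegree_X_le (R := A)
    simp only [natDegree_C, add_zero]
    exact this
  have hdeg' : (P ^ p).natDegree < p + 1 := Nat.lt_succ_of_le (natDegree_pow_le.trans (by nlinarith))
  let ev : A[X] →+* A := eval₂RingHom' (RingHom.id A) 1 fun _ => Commute.one_right _
  have hev : ev P = a + b := by simp [ev, P, eval₂RingHom']
  have h0 : (P ^ p).coeff 0 = a ^ p := by
    rw [← constantCoeff_apply, map_pow]; simp [P]
  have htop : (P ^ p).coeff p = b ^ p := by
    have := coeff_pow_of_natDegree_le (m := p) hdeg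
    rw [mul_one] at this
    rw [this]; simp [P]
  have hsum : (a + b) ^ p = ∑ i ∈ Finset.range (p + 1), (P ^ p).coeff i := by
    rw [← hev, ← map_pow]
    change eval₂ (RingHom.id A) 1 (P ^ p) = _
    rw [eval₂_eq_sum_range' (RingHom.id A) hdeg']
    simp
  have hcoef : ∀ i ∈ Finset.Ico 1 p, (P ^ p).coeff i = - ∑ t : Fin (p - 1) → Bool,
      if Fintype.card {j // t j = true} = i - 1 then
        (ZMod.castHom (dvd_refl p) R ((Fintype.card {j // t j = false} : ZMod p)⁻¹)) •
          PLie.bracketWord (PLie.pair a b) b (List.ofFn t) else 0 := by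
    intro i hi
    obtain ⟨h1, h2⟩ := Finset.mem_Ico.mp hi
    obtain ⟨k, rfl⟩ : ∃ k, i = k + 1 := ⟨i - 1, by omega⟩
    have hk : ((k + 1 : ℕ) : ZMod p) ≠ 0 := fun h =>
      absurd (Nat.le_of_dvd (by omega) ((ZMod.natCast_eq_zero_iff _ _).mp h)) (by omega)
    have h3 := congrArg (fun q : A[X] => q.coeff k) hD
    simp only [coeff_derivative, finsetSum_coeff, coeff_monomial] at h3
    have h4 : (ZMod.castHom (dvd_refl p) R ((k + 1 : ℕ) : ZMod p)) • (P ^ p).coeff (k + 1) =
        (P ^ p).coeff (k + 1) * ((k : A) + 1) := by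
      rw [map_natCast, Algebra.smul_def, map_natCast, (Nat.cast_commute (k + 1) _).eq, Nat.cast_succ]
    rw [h3] at h4
    have h5 := congrArg ((ZMod.castHom (dvd_refl p) R ((k + 1 : ℕ) : ZMod p)⁻¹) • ·) h4
    simp only [smul_smul, ← map_mul, inv_mul_cancel₀ hk, map_one, one_smul, Finset.smul_sum, smul_ite,
      smul_zero] at h5
    rw [h5, ← Finset.sum_neg_distrib]
    refine Finset.sum_congr rfl fun t _ => ?_
    rw [Nat.add_sub_cancel]
    split_ifs with ht
    · rw [← neg_smul, ← map_neg, ← inv_neg]
      congr 3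
      have hc : Fintype.card {j // t j = false} + Fintype.card {j // t j = true} = p - 1 := by
        have := Finset.card_filter_add_card_filter_not (s := (Finset.univ : Finset (Fin (p - 1))))
          (fun j => t j = false)
        rw [Finset.card_univ, Fintype.card_fin] at this
        rw [Fintype.card_subtype, Fintype.card_subtype]
        convert this using 3
        ext j
        simp
      rw [ht] at hc
      have : ((Fintype.card {j // t j = false} + (k + 1) : ℕ) : ZMod p) = 0 := by
        rw [show Fintype.card {j // t j = false} + (k + 1) = p by omega, ZMod.natCast_self]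
      rw [Nat.cast_add] at this
      exact eq_neg_of_add_eq_zero_right this
    · simp
  rw [hsum, Finset.sum_range_succ, Finset.range_eq_Ico, Finset.sum_eq_sum_Ico_succ_bot hp.out.pos,
    h0, htop, Finset.sum_congr rfl hcoef, Finset.sum_neg_distrib, Finset.sum_comm]
  rw [PLie.jacobson, sub_eq_add_neg, add_right_comm]
  congr 2
  refine Finset.sum_congr rfl fun t _ => ?_
  rw [Finset.sum_ite, Finset.sum_const_zero, add_zero, Finset.sum_const]
  have hc : Fintype.card {j // t j = true} ≤ p - 1 :=
    (Fintype.card_subtype_le _).trans (Fintype.card_fin _).le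
  rcases hc.eq_or_lt with he | hlt
  · have hall : ∀ j, t j = true := fun j => by
      by_contra h
      exact (Fintype.card_subtype_lt (x := j) (p := fun j => t j = true) h).ne (he.trans (Fintype.card_fin _).symm)
    have h0 : Fintype.card {j // t j = false} = 0 := Fintype.card_eq_zero_iff.mpr ⟨fun j => by simpa [hall] using j.2⟩
    simp [h0]
  · rw [show (Finset.Ico (0 + 1) p).filter (fun i => Fintype.card {j // t j = true} = i - 1) =
        {Fintype.card {j // t j = true} + 1} by
      ext i; simp only [Finset.mem_filter, Finset.mem_Ico, Finset.mem_singleton]; omega]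
    simp

end Assoc

section Lie

variable {R : Type u} [CommRing R] (p : ℕ) [hp : Fact p.Prime] [CharP R p]
  {L : Type v} [LieRing L] [LieAlgebra R L]

omit [CharP R p] [LieAlgebra R L] in
theorem map_bracketWord {A : Type w} [Ring A] (e : L →+ A) (he : ∀ x y, e ⁅x, y⁆ = ⁅e x, e y⁆) (x₀ x₁ z : L) :
    ∀ l : List Bool, e (PLie.bracketWord (PLie.pair x₀ x₁) z l) =
      PLie.bracketWord (PLie.pair (e x₀) (e x₁)) (e z) l
  | [] => rfl
  | i :: l => by
    rw [PLie.bracketWord_cons, PLie.bracketWord_cons, he, map_bracketWord e he x₀ x₁ z l]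
    cases i <;> rfl

omit hp in
theorem map_jacobson {A : Type w} [Ring A] [Algebra R A] (e : L →ₗ[R] A) (he : ∀ x y, e ⁅x, y⁆ = ⁅e x, e y⁆)
    (x₀ x₁ : L) : e (PLie.jacobson R p x₀ x₁) = PLie.jacobson R p (e x₀) (e x₁) := by
  simp only [PLie.jacobson, map_sum, map_smul]
  exact Finset.sum_congr rfl fun t _ => congrArg _ (map_bracketWord e.toAddMonoidHom he x₀ x₁ x₁ _)

theorem pmap_zero (φ : PLie.PMap R p L) : φ 0 = 0 := by
  have := φ.map_smul 0 0
  rwa [zero_pow hp.out.ne_zero, zero_smul, zero_smul] at this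

theorem pmap_ext {ι : Type w} (b : Module.Basis ι R L) {φ ψ : PLie.PMap R p L}
    (h : ∀ i, φ (b i) = ψ (b i)) : φ = ψ := by
  have hfun : ∀ x, φ x = ψ x := by
    intro x
    induction b.mem_span x using Submodule.span_induction with
    | mem y hy => obtain ⟨i, rfl⟩ := hy; exact h i
    | zero => rw [pmap_zero, pmap_zero]
    | add y z _ _ hy hz => rw [φ.map_add, ψ.map_add, hy, hz]
    | smul c y _ hy => rw [φ.map_smul, ψ.map_smul, hy]
  cases φ; cases ψ
  congr 1
  exact funext hfun

/-- `x ↦ Σ cᵢᵖ • zᵢ`. -/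
noncomputable def frob {ι : Type w} {M : Type*} [AddCommGroup M] [Module R M] (b : Module.Basis ι R L) (z : ι → M)
    (x : L) : M :=
  (b.repr x).sum fun i c => c ^ p • z i

theorem exists_pmap {ι : Type w} (b : Module.Basis ι R L) (y : ι → L)
    (hy : ∀ i : ι, LieAlgebra.ad R L (b i) ^ p = LieAlgebra.ad R L (y i)) :
    ∃ φ : PLie.PMap R p L, ∀ i : ι, φ (b i) = y i := by
  classical
  let _ : LinearOrder ι := @linearOrderOfSTO _ WellOrderingRel _ (Classical.decRel _)
  let U := UniversalEnvelopingAlgebra R L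
  let e : L →ₗ[R] U := (UniversalEnvelopingAlgebra.ι R : L →ₗ⁅R⁆ U).toLinearMap
  have he : ∀ x y, e ⁅x, y⁆ = ⁅e x, e y⁆ := fun x y => LieHom.map_lie (UniversalEnvelopingAlgebra.ι R) x y
  have hinj : Function.Injective e := by
    have hb : ∀ i, Groth.Agent.PBWLib.Ψ b (e (b i)) = Finsupp.single ({i} : Multiset ι) 1 := fun i => by
      have := Groth.Agent.PBWLib.Ψ_list b [i] (List.pairwise_singleton _ _)
      simpa [Groth.Agent.PBWLib.z, e] using this
    intro x x' h
    have key : Groth.Agent.PBWLib.Ψ b ∘ₗ e =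
        (Finsupp.lmapDomain R R fun i => ({i} : Multiset ι)) ∘ₗ b.repr.toLinearMap :=
      b.ext fun i => by simp [hb]
    have h2 := congrArg (Groth.Agent.PBWLib.Ψ b) h
    rw [← LinearMap.comp_apply, ← LinearMap.comp_apply, key] at h2
    exact b.repr.injective (Finsupp.mapDomain_injective (fun i j hij => Multiset.singleton_inj.mp hij) h2)
  have hiter : ∀ (n : ℕ) (x w : L), (fun z => ⁅e x, z⁆)^[n] (e w) = e ((LieAlgebra.ad R L x ^ n) w) := by
    intro n x w
    induction n with
    | zero => simp
    | succ n ih => rw [Function.iterate_succ_apply', ih, pow_succ', Module.End.mul_apply, LieAlgebra.ad_apply, he]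
  have hpow : ∀ x w, ⁅e x ^ p, e w⁆ = e ((LieAlgebra.ad R L x ^ p) w) := fun x w => by
    rw [← hiter, iterate_bracket_prime (R := R), LieRing.of_associative_ring_bracket]
  let z : ι → U := fun i => e (b i) ^ p - e (y i)
  have hz : ∀ i w, ⁅z i, e w⁆ = 0 := fun i w => by
    rw [sub_lie, hpow, hy, LieAlgebra.ad_apply, he, sub_self]
  let Z : L → U := frob p b z
  have hZadd : ∀ x x', Z (x + x') = Z x + Z x' := fun x x' => by
    simp only [Z, frob, map_add]
    exact Finsupp.sum_add_index' (fun i => by rw [zero_pow hp.out.ne_zero, zero_smul])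
      (fun i c c' => by rw [add_pow_char, add_smul])
  have hZsmul : ∀ (c : R) x, Z (c • x) = c ^ p • Z x := fun c x => by
    simp only [Z, frob, map_smul, Finsupp.smul_sum]
    rw [Finsupp.sum_smul_index' (fun i => by rw [zero_pow hp.out.ne_zero, zero_smul])]
    refine Finsupp.sum_congr fun i _ => ?_
    rw [smul_eq_mul, mul_pow, smul_smul]
  have hZb : ∀ i, Z (b i) = z i := fun i => by
    simp only [Z, frob, Module.Basis.repr_self]
    rw [Finsupp.sum_single_index (by rw [zero_pow hp.out.ne_zero, zero_smul]), one_pow, one_smul]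
  have hZc : ∀ x w, ⁅Z x, e w⁆ = 0 := fun x w => by
    simp only [Z, frob, Finsupp.sum, sum_lie, smul_lie, hz, smul_zero, Finset.sum_const_zero]
  have hmem : ∀ x, ∃ v, e v = e x ^ p - Z x := by
    intro x
    induction b.mem_span x using Submodule.span_induction with
    | mem w hw => obtain ⟨i, rfl⟩ := hw; exact ⟨y i, by rw [hZb]; simp [z]⟩
    | zero => exact ⟨0, by simp [Z, frob, zero_pow hp.out.ne_zero]⟩
    | add w w' _ _ hw hw' =>
      obtain ⟨v, hv⟩ := hw
      obtain ⟨v', hv'⟩ := hw'
      refine ⟨v + v' - PLie.jacobson R p w w', ?_⟩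
      rw [map_sub, map_add, map_add, hv, hv', hZadd, map_jacobson p e he, add_pow_eq R p]
      abel
    | smul c w _ hw =>
      obtain ⟨v, hv⟩ := hw
      exact ⟨c ^ p • v, by rw [map_smul, map_smul, hv, hZsmul, smul_pow, smul_sub]⟩
  choose φ hφ using hmem
  refine ⟨⟨φ, fun c x => hinj ?_, fun x => LinearMap.ext fun w => hinj ?_, fun x x' => hinj ?_⟩,
    fun i => hinj ?_⟩
  · rw [map_smul e, hφ, hφ, map_smul, hZsmul, smul_pow, smul_sub]
  · rw [LieAlgebra.ad_apply, he, hφ, sub_lie, hZc, sub_zero, hpow]
  · rw [map_sub, map_add, hφ, hφ, hφ, map_jacobson p e he, map_add, hZadd, add_pow_eq R p]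
    abel
  · show e (φ (b i)) = e (y i)
    rw [hφ, hZb]
    simp [z]

end Lie

end Groth.Agent.PLieLib
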