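import Groth.Agent.PLieLib.Hom
import Groth.Agent.PBWLib.Basic
import Mathlib.Algebra.Algebra.Subalgebra.Basic
import Mathlib.LinearAlgebra.Quotient.Basic
import Mathlib.RingTheory.Finiteness.Basic

/-! A finite faithful representation of a free restricted Lie algebra of finite rank: the restricted
enveloping algebra via a Poincaré–Birkhoff–Witt basis adapted to the central elements `xᵢᵖ - xᵢ⁽ᵖ⁾`. -/

universe u v w

namespace Groth.Agent.PLieLib

open Groth.Agent.PBWLib
open scoped Classical
attribute [local instance 100] LieRing.ofAssociativeRing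

variable {R : Type u} [CommRing R] {L : Type v} [LieRing L] [LieAlgebra R L] {ι : Type w} [LinearOrder ι]
  (b : Module.Basis ι R L)

local notation "U" => UniversalEnvelopingAlgebra R L

/-- elements of degree less than `n` -/
noncomputable def degLT (n : ℕ) : Submodule R (Multiset ι →₀ R) := Finsupp.supported R R {M | M.card < n}

/-- `u` has leading monomial `M` -/
def HasLead (u : U) (M : Multiset ι) : Prop := Ψ b u - z M ∈ degLT (R := R) M.card

theorem Ψ_mul (x : L) (u : U) : Ψ b (UniversalEnvelopingAlgebra.ι R x * u) = ρ b x (Ψ b u) := by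
  simp only [Ψ, LinearMap.comp_apply, AlgHom.toLinearMap_apply, map_mul, LinearMap.applyₗ_apply_apply,
    Module.End.mul_apply, UniversalEnvelopingAlgebra.lift_ι_apply]
  rfl

omit [LinearOrder ι] in
theorem degLT_succ (n : ℕ) : degLT (R := R) (ι := ι) (n + 1) = degLE n := by
  simp only [degLT, degLE, Nat.lt_succ_iff]

theorem ρ_mem (x : L) {n : ℕ} {v : Multiset ι →₀ R} (hv : v ∈ degLE n) : ρ b x v ∈ degLE (n + 1) := by
  have h : ∀ i (M : Multiset ι), M.card ≤ n → act b i M ∈ degLE (n + 1) := fun i M hM => by
    simpa using add_mem (degLE_mono (show M.card ≤ n + 1 by omega) (act_sub_mem b i M))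
      (z_mem (R := R) (M := i ::ₘ M) (n := n + 1) (by simp; omega))
  rw [degLE, Finsupp.supported_eq_span_single] at hv
  induction hv using Submodule.span_induction with
  | mem v hv =>
    obtain ⟨M, hM, rfl⟩ := hv
    change ρ b x (z M) ∈ _
    rw [ρ_z, Finsupp.linearCombination_apply]
    exact Submodule.sum_mem _ fun i _ => Submodule.smul_mem _ _ (h i M hM)
  | zero => rw [map_zero]; exact zero_mem _
  | add v w _ _ hv hw => rw [map_add]; exact add_mem hv hw
  | smul c v _ hv => rw [map_smul]; exact Submodule.smul_mem _ _ hv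

theorem HasLead.mem {u : U} {M : Multiset ι} (h : HasLead b u M) {n : ℕ} (hn : M.card ≤ n) :
    Ψ b u ∈ degLE n := by
  have h1 : Ψ b u - z M ∈ degLE n :=
    Finsupp.supported_mono (fun N hN => (Nat.le_of_lt hN).trans hn) h
  simpa using add_mem h1 (z_mem (R := R) hn)

theorem HasLead.mul {u : U} {M : Multiset ι} (h : HasLead b u M) (i : ι) :
    HasLead b (UniversalEnvelopingAlgebra.ι R (b i) * u) (i ::ₘ M) := by
  rw [HasLead, Ψ_mul, Multiset.card_cons, degLT_succ]
  have h1 : ρ b (b i) (Ψ b u - z M) ∈ degLE M.card := by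
    rcases Nat.eq_zero_or_pos M.card with h0 | h0
    · have hz : Ψ b u - z M = 0 := by
        refine Finsupp.support_eq_empty.mp (Finset.eq_empty_of_forall_notMem fun N hN => ?_)
        have := (Finsupp.mem_supported R _).mp h hN
        simp [h0] at this
      rw [hz, map_zero]; exact zero_mem _
    · obtain ⟨m, hm⟩ : ∃ m, M.card = m + 1 := ⟨M.card - 1, by omega⟩
      rw [hm]
      refine ρ_mem b _ ?_
      rw [← degLT_succ, ← hm]; exact h
  have h2 := act_sub_mem b i M
  rw [← ρ_b] at h2
  rw [map_sub] at h1
  simpa using add_mem h1 h2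

theorem HasLead.pow_mul {u : U} {M : Multiset ι} (h : HasLead b u M) (i : ι) : ∀ n : ℕ,
    HasLead b (UniversalEnvelopingAlgebra.ι R (b i) ^ n * u) (Multiset.replicate n i + M)
  | 0 => by simpa using h
  | n + 1 => by
    rw [pow_succ', mul_assoc, Multiset.replicate_succ, Multiset.cons_add]
    exact (HasLead.pow_mul h i n).mul b i

theorem hasLead_mon (M : Multiset ι) : HasLead b (mon b M) M := by
  have : Ψ b (mon b M) = z M := by
    rw [mon, Ψ_list b _ (Multiset.pairwise_sort _ _), Multiset.sort_eq]
  rw [HasLead, this, sub_self]; exact zero_mem _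

/-- linear extension of a family with leading monomials -/
noncomputable def famMap (T : Multiset ι → U) : (Multiset ι →₀ R) →ₗ[R] U := Finsupp.linearCombination R T

theorem famMap_sub_mem {T : Multiset ι → U} (hT : ∀ M, HasLead b (T M) M) {n : ℕ} {v : Multiset ι →₀ R}
    (hv : v ∈ degLE n) : Ψ b (famMap T v) - v ∈ degLT (R := R) n := by
  rw [degLE, Finsupp.supported_eq_span_single] at hv
  induction hv using Submodule.span_induction with
  | mem v hv =>
    obtain ⟨M, hM, rfl⟩ := hv
    rw [famMap, Finsupp.linearCombination_single, one_smul]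
    exact Finsupp.supported_mono (fun N hN => Nat.lt_of_lt_of_le hN hM) (hT M)
  | zero => rw [map_zero, map_zero, sub_zero]; exact zero_mem _
  | add v w _ _ hv hw => rw [map_add, map_add, add_sub_add_comm]; exact add_mem hv hw
  | smul c v _ hv => rw [map_smul, map_smul, ← smul_sub]; exact Submodule.smul_mem _ _ hv

omit [LinearOrder ι] in
theorem degLT_zero {v : Multiset ι →₀ R} (h : v ∈ degLT (R := R) 0) : v = 0 :=
  Finsupp.support_eq_empty.mp (Finset.eq_empty_of_forall_notMem fun _ hN =>
    Nat.not_lt_zero _ ((Finsupp.mem_supported R _).mp h hN))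

theorem famMap_bijective {T : Multiset ι → U} (hT : ∀ M, HasLead b (T M) M) : Function.Bijective (famMap T) := by
  have hsurj : ∀ n, ∀ w ∈ degLT (R := R) (ι := ι) n, ∃ v, Ψ b (famMap T v) = w := by
    intro n
    induction n with
    | zero => exact fun w hw => ⟨0, by rw [degLT_zero hw, map_zero, map_zero]⟩
    | succ n ih =>
      intro w hw
      rw [degLT_succ] at hw
      obtain ⟨v, hv⟩ := ih _ (famMap_sub_mem b hT hw)
      exact ⟨w - v, by rw [map_sub, map_sub, hv, sub_sub_cancel]⟩
  have hinj : ∀ n, ∀ v ∈ degLT (R := R) (ι := ι) n, famMap T v = 0 → v = 0 := by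
    intro n
    induction n with
    | zero => exact fun v hv _ => degLT_zero hv
    | succ n ih =>
      intro v hv h0
      rw [degLT_succ] at hv
      have := famMap_sub_mem b hT hv
      rw [h0, map_zero, zero_sub, Submodule.neg_mem_iff] at this
      exact ih v this h0
  have hbound : ∀ v : Multiset ι →₀ R, v ∈ degLT (R := R) (v.support.sup Multiset.card + 1) := fun v =>
    (Finsupp.mem_supported R v).mpr fun N hN => Nat.lt_succ_of_le (Finset.le_sup (Finset.mem_coe.mp hN))
  refine ⟨(injective_iff_map_eq_zero _).mpr fun v => hinj _ v (hbound v), fun u => ?_⟩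
  obtain ⟨v, hv⟩ := hsurj _ _ (hbound (Ψ b u))
  exact ⟨v, (monEquiv b).symm.injective hv⟩

variable (p : ℕ) [hp : Fact p.Prime] [CharP R p] (φ : PLie.PMap R p L)

/-- the central element `xᵖ - x⁽ᵖ⁾` -/
noncomputable def pDiff (x : L) : U :=
  UniversalEnvelopingAlgebra.ι R x ^ p - UniversalEnvelopingAlgebra.ι R (φ x)

theorem pDiff_lie (x w : L) :
    pDiff p φ x * UniversalEnvelopingAlgebra.ι R w = UniversalEnvelopingAlgebra.ι R w * pDiff p φ x := by
  set e : L →ₗ⁅R⁆ U := UniversalEnvelopingAlgebra.ι R
  have hiter : ∀ n, (fun v => ⁅e x, v⁆)^[n] (e w) = e ((LieAlgebra.ad R L x ^ n) w) := by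
    intro n
    induction n with
    | zero => rfl
    | succ n ih =>
      rw [Function.iterate_succ_apply', ih, pow_succ', Module.End.mul_apply, LieAlgebra.ad_apply, LieHom.map_lie]
  have h := iterate_bracket_prime (R := R) p (e x) (e w)
  rw [hiter, ← lie_pmap, LieHom.map_lie, LieRing.of_associative_ring_bracket] at h
  rw [pDiff, sub_mul, mul_sub, sub_eq_sub_iff_sub_eq_sub]
  exact h.symm

theorem pDiff_mem_center (x : L) : pDiff p φ x ∈ Subalgebra.center R U := by
  rw [Subalgebra.mem_center_iff]
  intro u
  obtain ⟨t, rfl⟩ : ∃ t, UniversalEnvelopingAlgebra.mkAlgHom R L t = u := RingCon.mk'_surjective _ u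
  induction t using TensorAlgebra.induction with
  | algebraMap r => rw [AlgHom.commutes]; exact Algebra.commutes r _
  | ι w => exact (pDiff_lie p φ x w).symm
  | mul a c ha hc => rw [map_mul, mul_assoc, hc, ← mul_assoc, ha, mul_assoc]
  | add a c ha hc => rw [map_add, add_mul, mul_add, ha, hc]

/-- the central element, in the center -/
noncomputable def pDiffC (x : L) : Subalgebra.center R U := ⟨pDiff p φ x, pDiff_mem_center p φ x⟩

/-- `M` divided by `p` -/
noncomputable def mquot (M : Multiset ι) : Multiset ι :=
  ∑ i ∈ M.toFinset, Multiset.replicate (M.count i / p) i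

/-- `M` modulo `p` -/
noncomputable def mres (M : Multiset ι) : Multiset ι :=
  ∑ i ∈ M.toFinset, Multiset.replicate (M.count i % p) i

omit hp in
theorem count_mquot (M : Multiset ι) (j : ι) : (mquot p M).count j = M.count j / p := by
  rw [mquot, Multiset.count_sum']
  simp only [Multiset.count_replicate]
  rw [Finset.sum_ite_eq']
  split_ifs with h
  · rfl
  · rw [Multiset.count_eq_zero.mpr (fun h' => h (Multiset.mem_toFinset.mpr h')), Nat.zero_div]

omit hp in
theorem count_mres (M : Multiset ι) (j : ι) : (mres p M).count j = M.count j % p := by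
  rw [mres, Multiset.count_sum']
  simp only [Multiset.count_replicate]
  rw [Finset.sum_ite_eq']
  split_ifs with h
  · rfl
  · rw [Multiset.count_eq_zero.mpr (fun h' => h (Multiset.mem_toFinset.mpr h')), Nat.zero_mod]

/-- the adapted monomial -/
noncomputable def T (M : Multiset ι) : U :=
  (((mquot p M).map fun i => pDiffC p φ (b i)).prod : Subalgebra.center R U) * mon b (mres p M)

theorem T_add (M : Multiset ι) (i : ι) : T b p φ (Multiset.replicate p i + M) = pDiff p φ (b i) * T b p φ M := by
  have hq : mquot p (Multiset.replicate p i + M) = i ::ₘ mquot p M := Multiset.ext.mpr fun j => by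
    rw [count_mquot, Multiset.count_add, Multiset.count_replicate, Multiset.count_cons, count_mquot]
    by_cases h : j = i
    · rw [if_pos h.symm, if_pos h, Nat.add_div_left _ hp.out.pos]
    · rw [if_neg (Ne.symm h), if_neg h, zero_add, add_zero]
  have hr : mres p (Multiset.replicate p i + M) = mres p M := Multiset.ext.mpr fun j => by
    rw [count_mres, Multiset.count_add, Multiset.count_replicate, count_mres]
    split_ifs <;> simp
  rw [T, hq, hr, Multiset.map_cons, Multiset.prod_cons, T, Subalgebra.coe_mul, mul_assoc]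
  rfl

theorem hasLead_pDiff {u : U} {M : Multiset ι} (h : HasLead b u M) (i : ι) :
    HasLead b (pDiff p φ (b i) * u) (Multiset.replicate p i + M) := by
  have h1 := h.pow_mul b i p
  have h2 : Ψ b (UniversalEnvelopingAlgebra.ι R (φ (b i)) * u) ∈
      degLT (R := R) (Multiset.replicate p i + M).card := by
    have hcard : M.card + 1 < (Multiset.replicate p i + M).card := by
      rw [Multiset.card_add, Multiset.card_replicate]; have := hp.out.two_le; omega
    rw [Ψ_mul]
    exact Finsupp.supported_mono (fun N hN => Nat.lt_of_le_of_lt hN hcard) (ρ_mem b _ (h.mem b le_rfl))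
  unfold HasLead at h1 ⊢
  rw [pDiff, sub_mul, map_sub, sub_right_comm]
  exact sub_mem h1 h2

theorem hasLead_prod (u : U) (M : Multiset ι) (h : HasLead b u M) (Q : Multiset ι) :
    HasLead b (((Q.map fun i => pDiffC p φ (b i)).prod : Subalgebra.center R U) * u) (p • Q + M) := by
  induction Q using Multiset.induction_on with
  | empty => simpa using h
  | cons i Q ih =>
    rw [Multiset.map_cons, Multiset.prod_cons, Subalgebra.coe_mul, mul_assoc, ← Multiset.singleton_add, smul_add,
      Multiset.nsmul_singleton, add_assoc]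
    exact hasLead_pDiff b p φ ih i

theorem hasLead_T (M : Multiset ι) : HasLead b (T b p φ M) M := by
  have := hasLead_prod b p φ _ _ (hasLead_mon b (mres p M)) (mquot p M)
  rwa [show p • mquot p M + mres p M = M from Multiset.ext.mpr fun j => by
    rw [Multiset.count_add, Multiset.count_nsmul, count_mquot, count_mres, Nat.div_add_mod]] at this

/-- the monomials in the ideal -/
def big : Set (Multiset ι) := {M | ∃ i, p ≤ M.count i}

/-- the defining ideal of the restricted enveloping algebra -/
noncomputable def relIdeal : Submodule R U := (Finsupp.supported R R (big (ι := ι) p)).map (famMap (T b p φ))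

theorem pDiff_mul_mem (i : ι) (u : U) : pDiff p φ (b i) * u ∈ relIdeal b p φ := by
  obtain ⟨v, rfl⟩ := (famMap_bijective b (hasLead_T b p φ)).2 u
  induction v using Finsupp.induction_linear with
  | zero => rw [map_zero, mul_zero]; exact zero_mem _
  | add v w hv hw => rw [map_add, mul_add]; exact add_mem hv hw
  | single M c =>
    rw [famMap, Finsupp.linearCombination_single, mul_smul_comm, ← T_add]
    refine ⟨Finsupp.single (Multiset.replicate p i + M) c, Finsupp.single_mem_supported R c ⟨i, ?_⟩, ?_⟩
    · simp
    · rw [famMap, Finsupp.linearCombination_single]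

theorem mul_mem_relIdeal (u : U) {w : U} (hw : w ∈ relIdeal b p φ) : u * w ∈ relIdeal b p φ := by
  obtain ⟨v, hv, rfl⟩ := hw
  rw [Finsupp.supported_eq_span_single] at hv
  induction hv using Submodule.span_induction with
  | mem v hv =>
    obtain ⟨M, ⟨i, hi⟩, rfl⟩ := hv
    obtain ⟨M', rfl⟩ := Multiset.le_iff_exists_add.mp (Multiset.le_count_iff_replicate_le.mp hi)
    rw [famMap, Finsupp.linearCombination_single, one_smul, T_add, ← mul_assoc,
      Subalgebra.mem_center_iff.mp (pDiff_mem_center p φ (b i)) u, mul_assoc]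
    exact pDiff_mul_mem b p φ i _
  | zero => rw [map_zero, mul_zero]; exact zero_mem _
  | add v w _ _ hv hw => rw [map_add, mul_add]; exact add_mem hv hw
  | smul c v _ hv => rw [map_smul, mul_smul_comm]; exact Submodule.smul_mem _ _ hv

theorem pDiff_mul_mem' (x : L) : ∀ u : U, pDiff p φ x * u ∈ relIdeal b p φ := by
  induction b.mem_span x using Submodule.span_induction with
  | mem x hx => obtain ⟨i, rfl⟩ := hx; exact pDiff_mul_mem b p φ i
  | zero =>
    intro u
    rw [pDiff, pmap_zero, map_zero, zero_pow hp.out.ne_zero, sub_zero, zero_mul]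
    exact zero_mem _
  | add x y _ _ hx hy =>
    intro u
    have : pDiff p φ (x + y) = pDiff p φ x + pDiff p φ y := by
      rw [pDiff, φ.map_add, map_sub, map_add, map_add, hom_jacobson, add_pow_eq R p, pDiff, pDiff]
      abel
    rw [this, add_mul]
    exact add_mem (hx u) (hy u)
  | smul c x _ hx =>
    intro u
    rw [pDiff, φ.map_smul, map_smul, map_smul, smul_pow, ← smul_sub, smul_mul_assoc]
    exact Submodule.smul_mem _ _ (hx u)

include b in
/-- A free restricted Lie algebra of finite rank has a faithful representation on a finite module. -/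
theorem exists_faithful [Finite ι] :
    ∃ (J : Submodule R U) (e : L →ₗ[R] Module.End R (U ⧸ J)),
      Module.Finite R (U ⧸ J) ∧ PLie.IsPSubOfAssoc φ e := by
  let J := relIdeal b p φ
  have hbij := famMap_bijective b (hasLead_T b p φ)
  let lm : U → Module.End R (U ⧸ J) := fun u =>
    J.mapQ J (LinearMap.mulLeft R u) fun w hw => mul_mem_relIdeal b p φ u hw
  have lm_mk : ∀ u w, lm u (Submodule.Quotient.mk w) = Submodule.Quotient.mk (u * w) := fun _ _ => rfl
  have lm_mul : ∀ u u', lm (u * u') = lm u * lm u' := fun u u' => LinearMap.ext fun q => by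
    obtain ⟨w, rfl⟩ := Submodule.Quotient.mk_surjective J q
    rw [Module.End.mul_apply, lm_mk, lm_mk, lm_mk, mul_assoc]
  have lm_sub : ∀ u u', lm (u - u') = lm u - lm u' := fun u u' => LinearMap.ext fun q => by
    obtain ⟨w, rfl⟩ := Submodule.Quotient.mk_surjective J q
    rw [LinearMap.sub_apply, lm_mk, lm_mk, lm_mk, sub_mul, Submodule.Quotient.mk_sub]
  have lm_one : lm 1 = 1 := LinearMap.ext fun q => by
    obtain ⟨w, rfl⟩ := Submodule.Quotient.mk_surjective J q
    rw [lm_mk, one_mul]; rfl
  have lm_pow : ∀ u n, lm (u ^ n) = lm u ^ n := by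
    intro u n
    induction n with
    | zero => rw [pow_zero, pow_zero, lm_one]
    | succ n ih => rw [pow_succ, pow_succ, lm_mul, ih]
  let e : L →ₗ[R] Module.End R (U ⧸ J) :=
    { toFun := fun x => lm (UniversalEnvelopingAlgebra.ι R x)
      map_add' := fun x y => LinearMap.ext fun q => by
        obtain ⟨w, rfl⟩ := Submodule.Quotient.mk_surjective J q
        rw [LinearMap.add_apply, lm_mk, lm_mk, lm_mk, map_add, add_mul, Submodule.Quotient.mk_add]
      map_smul' := fun c x => LinearMap.ext fun q => by
        obtain ⟨w, rfl⟩ := Submodule.Quotient.mk_surjective J q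
        rw [RingHom.id_apply, LinearMap.smul_apply, lm_mk, lm_mk, map_smul, smul_mul_assoc,
          Submodule.Quotient.mk_smul] }
  refine ⟨J, e, ?_, ?_, fun x y => ?_, fun x => ?_⟩
  · have hsmall : {M : Multiset ι | M ∉ big p}.Finite := by
      let _ := Fintype.ofFinite ι
      refine Set.Finite.subset ((Set.finite_univ (α := ι → Fin p)).image
        fun c => ∑ i, Multiset.replicate (c i : ℕ) i) fun M hM => ?_
      simp only [Set.mem_ofPred_eq, big, not_exists, not_le] at hM
      refine ⟨fun i => ⟨M.count i, hM i⟩, trivial, Multiset.ext.mpr fun j => ?_⟩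
      simp [Multiset.count_sum', Multiset.count_replicate]
    refine ⟨hsmall.toFinset.image (fun M => Submodule.Quotient.mk (p := J) (T b p φ M)), ?_⟩
    rw [eq_top_iff]
    rintro q -
    obtain ⟨u, rfl⟩ := Submodule.Quotient.mk_surjective J q
    obtain ⟨v, rfl⟩ := hbij.2 u
    induction v using Finsupp.induction_linear with
    | zero => rw [map_zero, Submodule.Quotient.mk_zero]; exact zero_mem _
    | add v w hv hw => rw [map_add, Submodule.Quotient.mk_add]; exact add_mem hv hw
    | single M c =>
      by_cases hM : M ∈ big p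
      · rw [(Submodule.Quotient.mk_eq_zero J).mpr ⟨_, Finsupp.single_mem_supported R c hM, rfl⟩]
        exact zero_mem _
      · rw [famMap, Finsupp.linearCombination_single, Submodule.Quotient.mk_smul]
        exact Submodule.smul_mem _ _ (Submodule.subset_span (by
          rw [Finset.coe_image]; exact ⟨M, hsmall.mem_toFinset.mpr hM, rfl⟩))
  · refine (injective_iff_map_eq_zero e).mpr fun x hx => ?_
    have h0 := LinearMap.congr_fun hx (Submodule.Quotient.mk 1)
    change lm (UniversalEnvelopingAlgebra.ι R x) (Submodule.Quotient.mk 1) = 0 at h0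
    rw [lm_mk, mul_one, Submodule.Quotient.mk_eq_zero] at h0
    obtain ⟨v, hv, hvx⟩ := h0
    have hTs : ∀ i, T b p φ {i} = UniversalEnvelopingAlgebra.ι R (b i) := fun i => by
      have hq : mquot p ({i} : Multiset ι) = 0 := Multiset.ext.mpr fun j => by
        rw [count_mquot, Multiset.count_zero, Nat.div_eq_of_lt]
        exact lt_of_le_of_lt (Multiset.nodup_iff_count_le_one.mp (Multiset.nodup_singleton i) j) hp.out.one_lt
      have hr : mres p ({i} : Multiset ι) = {i} := Multiset.ext.mpr fun j => by
        rw [count_mres, Nat.mod_eq_of_lt]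
        exact lt_of_le_of_lt (Multiset.nodup_iff_count_le_one.mp (Multiset.nodup_singleton i) j) hp.out.one_lt
      rw [T, hq, hr, Multiset.map_zero, Multiset.prod_zero, mon, Multiset.sort_singleton, OneMemClass.coe_one,
        one_mul]
      simp
    have key : famMap (T b p φ) ∘ₗ (Finsupp.lmapDomain R R fun i => ({i} : Multiset ι)) ∘ₗ b.repr.toLinearMap =
        (UniversalEnvelopingAlgebra.ι R : L →ₗ⁅R⁆ U).toLinearMap :=
      b.ext fun i => by simp [famMap, hTs]
    have hv' : v = Finsupp.mapDomain (fun i => ({i} : Multiset ι)) (b.repr x) :=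
      hbij.1 (hvx.trans (LinearMap.congr_fun key x).symm)
    refine b.repr.injective ?_
    rw [map_zero]
    ext i
    rw [← Finsupp.mapDomain_apply (fun i j hij => Multiset.singleton_inj.mp hij) (b.repr x) i, ← hv',
      Finsupp.zero_apply]
    refine Finsupp.notMem_support_iff.mp fun hi => ?_
    obtain ⟨j, hj⟩ := (Finsupp.mem_supported R v).mp hv hi
    have := Multiset.nodup_iff_count_le_one.mp (Multiset.nodup_singleton i) j
    have := hp.out.two_le
    omega
  · change lm _ = lm _ * lm _ - lm _ * lm _
    rw [LieHom.map_lie, LieRing.of_associative_ring_bracket, lm_sub, lm_mul, lm_mul]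
  · change lm _ = lm _ ^ p
    rw [← lm_pow, eq_comm, ← sub_eq_zero, ← lm_sub]
    refine LinearMap.ext fun q => ?_
    obtain ⟨w, rfl⟩ := Submodule.Quotient.mk_surjective J q
    rw [lm_mk, LinearMap.zero_apply, Submodule.Quotient.mk_eq_zero]
    exact pDiff_mul_mem' b p φ x w

end Groth.Agent.PLieLib
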